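import Groth.Agent.EGA41Lib.Adic
import Mathlib

/-! Formal smoothness descends along a map with an `A`-linear retraction. -/

universe u

open TensorProduct

namespace Groth.Agent.FSProjLib

variable {A B : Type u} [CommRing A] [CommRing B] [Algebra A B] (𝔞 : Ideal A) (𝔟 : Ideal B)

/-- Lifting along square-zero ideals gives formal smoothness. -/
theorem lift_of_sqZero
    (h : ∀ (C : Type u) [CommRing C] [Algebra A C] (J : Ideal C), J * J = ⊥ →
      (∃ k : ℕ, (𝔞 ^ k).map (algebraMap A C) = ⊥) → ∀ u : B →ₐ[A] C ⧸ J, (∃ k : ℕ, ∀ x ∈ 𝔟 ^ k, u x = 0) →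
        ∃ v : B →ₐ[A] C, (Ideal.Quotient.mkₐ A J).comp v = u) :
    EGA41.IsFormallySmoothAdic A 𝔞 B 𝔟 := by
  intro C _ _ J hJ
  obtain ⟨t, ht⟩ := hJ
  induction t generalizing C with
  | zero =>
    intro hA u hu
    refine h C J ?_ hA u hu
    have : (1 : C) ∈ (0 : Ideal C) := by rw [← ht, pow_zero, Ideal.one_eq_top]; trivial
    haveI : Subsingleton C := subsingleton_of_zero_eq_one (Ideal.mem_bot.mp this).symm
    exact Subsingleton.elim _ _
  | succ t ih =>
    intro hA u hu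
    rcases Nat.eq_zero_or_pos t with rfl | htpos
    · refine h C J ?_ hA u hu
      rw [pow_one] at ht
      rw [ht, Submodule.zero_eq_bot, Ideal.bot_mul]
    · set K := J ^ t with hK
      have hKJ : K ≤ J := Ideal.pow_le_self (by omega)
      let e := DoubleQuot.quotQuotEquivQuotOfLEₐ A hKJ
      have ht' : (J.map (Ideal.Quotient.mkₐ A K)) ^ t = 0 := by
        rw [← Ideal.map_pow, ← hK, Submodule.zero_eq_bot, Ideal.map_eq_bot_iff_le_ker]
        intro x hx
        exact Ideal.Quotient.eq_zero_iff_mem.mpr hx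
      have hA' : ∃ k : ℕ, (𝔞 ^ k).map (algebraMap A (C ⧸ K)) = ⊥ := hA.imp fun k hk => by
        rw [IsScalarTower.algebraMap_eq A C (C ⧸ K), ← Ideal.map_map, hk, Ideal.map_bot]
      obtain ⟨v', hv'⟩ := ih (C ⧸ K) (J.map (Ideal.Quotient.mkₐ A K)) ht' hA'
        (e.symm.toAlgHom.comp u) (hu.imp fun k hk x hx => by simp [hk x hx])
      have hc : ∀ b, e (Ideal.Quotient.mk _ (v' b)) = u b := by
        intro b
        have := AlgHom.congr_fun hv' b
        simp only [AlgHom.comp_apply, Ideal.Quotient.mkₐ_eq_mk] at this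
        rw [this]
        exact e.apply_symm_apply _
      have hK2 : K * K = ⊥ := by
        rw [hK, ← pow_add, ← Submodule.zero_eq_bot]
        exact pow_eq_zero_of_le (by omega) ht
      obtain ⟨v, hv⟩ := h C K hK2 hA v' (EGA41Lib.kills_power_of_nilpotent v' ⟨t, ht'⟩ (hu.imp fun k hk x hx => by
        apply e.injective
        rw [map_zero]
        exact (hc x).trans (hk x hx)))
      refine ⟨v, AlgHom.ext fun b => ?_⟩
      rw [← hc, ← hv]
      rfl

theorem exists_retraction (A' : Type u) [CommRing A'] [Algebra A A'] [Module.FaithfullyFlat A A']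
    [Module.Projective A A'] : ∃ ρ : A' →ₗ[A] A, ρ 1 = 1 := by
  let c : Ideal A := LinearMap.range (LinearMap.applyₗ (1 : A') : (A' →ₗ[A] A) →ₗ[A] A)
  suffices hc : c = ⊤ by
    obtain ⟨ρ, hρ⟩ := (hc ▸ trivial : (1 : A) ∈ c)
    exact ⟨ρ, hρ⟩
  by_contra hne
  obtain ⟨m, hm, hcm⟩ := Ideal.exists_le_maximal c hne
  refine Module.FaithfullyFlat.submodule_ne_top (M := A') hm (eq_top_iff.mpr fun z _ => ?_)
  obtain ⟨s, hs⟩ := Module.projective_def'.mp (inferInstance : Module.Projective A A')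
  have h1 : (1 : A') ∈ m • (⊤ : Submodule A A') := by
    have e := LinearMap.congr_fun hs (1 : A')
    rw [LinearMap.id_apply, LinearMap.comp_apply] at e
    rw [← e, Finsupp.linearCombination_apply]
    refine Submodule.sum_mem _ fun x _ => Submodule.smul_mem_smul (hcm ⟨Finsupp.lapply x ∘ₗ s, rfl⟩) trivial
  rw [Ideal.smul_top_eq_map] at h1 ⊢
  have h2 : (m.map (algebraMap A A') : Ideal A') = ⊤ := (Ideal.eq_top_iff_one _).mpr h1
  rw [h2]
  trivial

set_option backward.isDefEq.respectTransparency false in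
theorem isFormallySmoothAdic_of_retraction {A' : Type u} [CommRing A'] [Algebra A A']
    (ρ : A' →ₗ[A] A) (hρ : ρ 1 = 1)
    (h : EGA41.IsFormallySmoothAdic A' (𝔞.map (algebraMap A A')) (A' ⊗[A] B)
        ((𝔞.map (algebraMap A A')).map (algebraMap A' (A' ⊗[A] B)) ⊔
          𝔟.map (Algebra.TensorProduct.includeRight : B →ₐ[A] A' ⊗[A] B).toRingHom)) :
    EGA41.IsFormallySmoothAdic A 𝔞 B 𝔟 := by
  refine lift_of_sqZero 𝔞 𝔟 fun C _ _ J hJ hA u hu => ?_
  obtain ⟨n, hn⟩ := hA
  obtain ⟨k, hk⟩ := hu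
  let ι : C →ₐ[A] A' ⊗[A] C := Algebra.TensorProduct.includeRight
  let J' : Ideal (A' ⊗[A] C) := J.map ι.toRingHom
  have hJ' : J' * J' = ⊥ := by rw [← Ideal.map_mul, hJ, Ideal.map_bot]
  let R : A' ⊗[A] C →ₗ[A] C := (TensorProduct.lid A C).toLinearMap ∘ₗ ρ.rTensor C
  have hR : ∀ (a : A') (c : C), R (a ⊗ₜ c) = ρ a • c := fun a c => by simp [R]
  have hRι : ∀ c, R (ι c) = c := fun c => by
    show R ((1 : A') ⊗ₜ c) = c
    rw [hR, hρ, one_smul]
  have hRmul : ∀ (c : C) (z : A' ⊗[A] C), R (ι c * z) = c * R z := fun c z => by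
    induction z with
    | zero => simp
    | add x y hx hy => rw [mul_add, map_add, map_add, hx, hy, mul_add]
    | tmul a e =>
      show R ((1 : A') ⊗ₜ c * a ⊗ₜ e) = c * R (a ⊗ₜ e)
      rw [Algebra.TensorProduct.tmul_mul_tmul, one_mul, hR, hR, mul_smul_comm]
  have hRJ : ∀ z ∈ J', R z ∈ J := fun z hz => by
    refine Submodule.span_induction (fun x hx => ?_) (by rw [map_zero]; exact J.zero_mem)
      (fun x y _ _ hx hy => by rw [map_add]; exact J.add_mem hx hy) (fun r x hx' hIH => ?_) hz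
    · obtain ⟨j, hj, rfl⟩ := hx
      show R (ι j) ∈ J
      rw [hRι]; exact hj
    · clear hz hIH
      induction hx' using Submodule.span_induction generalizing r with
      | mem x hx =>
        obtain ⟨j, hj, rfl⟩ := hx
        show R (r * ι j) ∈ J
        rw [mul_comm, hRmul]
        exact J.mul_mem_right _ hj
      | zero => rw [smul_zero, map_zero]; exact J.zero_mem
      | add x y _ _ hx hy => rw [smul_add, map_add]; exact J.add_mem (hx r) (hy r)
      | smul s x _ hx => rw [smul_smul]; exact hx _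
  let π : (C ⧸ J) →ₐ[A] (A' ⊗[A] C) ⧸ J' := Ideal.Quotient.liftₐ J ((Ideal.Quotient.mkₐ A J').comp ι)
    (fun x hx => Ideal.Quotient.eq_zero_iff_mem.mpr (Ideal.mem_map_of_mem _ hx))
  let u' : A' ⊗[A] B →ₐ[A'] (A' ⊗[A] C) ⧸ J' :=
    Algebra.TensorProduct.lift (Algebra.ofId A' _) (π.comp u) (fun _ _ => Commute.all _ _)
  have hA' : ((𝔞.map (algebraMap A A')) ^ n).map (algebraMap A' (A' ⊗[A] C)) = ⊥ := by
    rw [← Ideal.map_pow, Ideal.map_map, ← IsScalarTower.algebraMap_eq, Ideal.map_eq_bot_iff_le_ker]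
    intro a ha
    rw [RingHom.mem_ker, ← ι.commutes, show algebraMap A C a = 0 from (Ideal.map_eq_bot_iff_le_ker _).mp hn ha, map_zero]
  have hu' : ∃ j : ℕ, ∀ x ∈ ((𝔞.map (algebraMap A A')).map (algebraMap A' (A' ⊗[A] B)) ⊔
      𝔟.map (Algebra.TensorProduct.includeRight : B →ₐ[A] A' ⊗[A] B).toRingHom) ^ j, u' x = 0 := by
    refine ⟨n + k, fun x hx => ?_⟩
    refine (?_ : _ ≤ RingHom.ker u') (Ideal.sup_pow_add_le_pow_sup_pow hx)
    refine sup_le ?_ ?_
    · rw [← Ideal.map_pow, Ideal.map_le_iff_le_comap]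
      intro a ha
      show u' (algebraMap A' _ a) = 0
      rw [u'.commutes, IsScalarTower.algebraMap_apply A' (A' ⊗[A] C) ((A' ⊗[A] C) ⧸ J'),
        show algebraMap A' (A' ⊗[A] C) a = 0 from (Ideal.map_eq_bot_iff_le_ker _).mp hA' ha, map_zero]
    · rw [← Ideal.map_pow, Ideal.map_le_iff_le_comap]
      intro b hb
      show u' ((1 : A') ⊗ₜ b) = 0
      rw [Algebra.TensorProduct.lift_tmul, map_one, one_mul, AlgHom.comp_apply, hk b hb, map_zero]
  obtain ⟨v', hv'⟩ := h (A' ⊗[A] C) J' ⟨2, by rw [pow_two, hJ']; rfl⟩ ⟨n, hA'⟩ u' hu'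
  let vB : B →ₐ[A] A' ⊗[A] C := (v'.restrictScalars A).comp Algebra.TensorProduct.includeRight
  have hdec : ∀ b, ∀ c, Ideal.Quotient.mk J c = u b → vB b - ι c ∈ J' := fun b c hc => by
    rw [← Ideal.Quotient.eq]
    have h1 : Ideal.Quotient.mk J' (v' ((1 : A') ⊗ₜ b)) = u' ((1 : A') ⊗ₜ b) := AlgHom.congr_fun hv' _
    rw [Algebra.TensorProduct.lift_tmul, map_one, one_mul, AlgHom.comp_apply, ← hc] at h1
    exact h1
  let v : B →ₐ[A] C :=
    { toFun := fun b => R (vB b)
      map_one' := by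
        rw [map_one, show (1 : A' ⊗[A] C) = ι 1 from (map_one ι).symm, hRι]
      map_mul' := fun x y => by
        obtain ⟨cx, hcx⟩ := Ideal.Quotient.mk_surjective (u x)
        obtain ⟨cy, hcy⟩ := Ideal.Quotient.mk_surjective (u y)
        have hx := hdec x cx hcx
        have hy := hdec y cy hcy
        obtain ⟨jx, hjx, hex⟩ : ∃ j ∈ J', vB x = ι cx + j := ⟨_, hx, by ring⟩
        obtain ⟨jy, hjy, hey⟩ : ∃ j ∈ J', vB y = ι cy + j := ⟨_, hy, by ring⟩
        have h0 : jx * jy = 0 := by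
          have := Ideal.mul_mem_mul hjx hjy
          rwa [hJ', Ideal.mem_bot] at this
        have h1 : R jx * R jy = 0 := by
          have := Ideal.mul_mem_mul (hRJ jx hjx) (hRJ jy hjy)
          rwa [hJ, Ideal.mem_bot] at this
        rw [map_mul, hex, hey, show (ι cx + jx) * (ι cy + jy) = ι (cx * cy) + ι cx * jy + ι cy * jx + jx * jy by
          rw [map_mul]; ring]
        simp only [map_add, hRι, hRmul, h0, map_zero]
        linear_combination -h1
      map_zero' := by rw [map_zero, map_zero]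
      map_add' := fun x y => by rw [map_add, map_add]
      commutes' := fun a => by
        rw [vB.commutes, show algebraMap A (A' ⊗[A] C) a = ι (algebraMap A C a) from (ι.commutes a).symm, hRι] }
  refine ⟨v, AlgHom.ext fun b => ?_⟩
  obtain ⟨c, hc⟩ := Ideal.Quotient.mk_surjective (u b)
  show Ideal.Quotient.mk J (R (vB b)) = u b
  rw [← hc, Ideal.Quotient.eq]
  have := hRJ _ (hdec b c hc)
  rwa [map_sub, hRι] at this

end Groth.Agent.FSProjLib
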