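import Groth.Agent.EGA41Lib.Adic
import Mathlib

/-! Formally projective algebras: lifting follows from formal smoothness modulo the ideal of definition. -/

universe u

namespace Groth.Agent.FSProjLib

variable {A B : Type u} [CommRing A] [CommRing B] [Algebra A B] (𝔞 : Ideal A) (𝔟 : Ideal B)

/-- Formal projectivity, as in the statements. -/
def FProj : Prop :=
  ∀ (n : ℕ) (P Q : Type u) [AddCommGroup P] [Module A P] [AddCommGroup Q] [Module A Q],
    (∀ a ∈ 𝔞 ^ n, ∀ y : P, a • y = 0) → (∀ a ∈ 𝔞 ^ n, ∀ y : Q, a • y = 0) →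
    ∀ f : P →ₗ[A] Q, Function.Surjective f → ∀ v : B →ₗ[A] Q, (∃ m : ℕ, ∀ x ∈ 𝔟 ^ m, v x = 0) →
      ∃ w : B →ₗ[A] P, (∃ m : ℕ, ∀ x ∈ 𝔟 ^ m, w x = 0) ∧ f ∘ₗ w = v

/-- Formal smoothness modulo the ideal of definition. -/
abbrev SmoothMod : Prop :=
  EGA41.IsFormallySmoothAdic (A ⧸ 𝔞) ⊥ (B ⧸ 𝔞.map (algebraMap A B))
    (𝔟.map (Ideal.Quotient.mk (𝔞.map (algebraMap A B))))

set_option backward.isDefEq.respectTransparency false in
/-- Lifting along an extension by a square-zero ideal killed by `𝔞`. -/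
theorem lift_small (hproj : FProj (B := B) 𝔞 𝔟) (h₀ : SmoothMod (B := B) 𝔞 𝔟) {C : Type u} [CommRing C]
    [Algebra A C] (J : Ideal C) (hJ : J * J = ⊥) (hJa : ∀ a ∈ 𝔞, ∀ x ∈ J, a • x = 0)
    {n : ℕ} (hC : (𝔞 ^ n).map (algebraMap A C) = ⊥) (u : B →ₐ[A] C ⧸ J) (hu : ∃ m : ℕ, ∀ x ∈ 𝔟 ^ m, u x = 0) :
    ∃ v : B →ₐ[A] C, (Ideal.Quotient.mkₐ A J).comp v = u := by
  have hsm : ∀ a ∈ 𝔞 ^ n, ∀ y : C, a • y = 0 := fun a ha y => by
    rw [Algebra.smul_def, show algebraMap A C a = 0 from (Ideal.map_eq_bot_iff_le_ker _).mp hC ha, zero_mul]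
  obtain ⟨w, ⟨m', hm'⟩, hw⟩ := hproj n C (C ⧸ J) hsm (fun a ha y => by
    obtain ⟨c, rfl⟩ := Ideal.Quotient.mk_surjective y
    show Ideal.Quotient.mk J (a • c) = 0
    rw [hsm a ha, map_zero]) (Ideal.Quotient.mkₐ A J).toLinearMap Ideal.Quotient.mk_surjective u.toLinearMap hu
  obtain ⟨m, hm⟩ := hu
  let I : Ideal B := 𝔟 ^ (max m m')
  let ū : (B ⧸ I) →ₐ[A] C ⧸ J := Ideal.Quotient.liftₐ I u fun x hx => hm x (Ideal.pow_le_pow_right (le_max_left _ _) hx)
  let wb : (B ⧸ I) →ₗ[A] C := Submodule.liftQ (I.restrictScalars A) w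
    (fun x hx => hm' x (Ideal.pow_le_pow_right (le_max_right _ _) hx)) ∘ₗ (Submodule.Quotient.restrictScalarsEquiv A I).symm.toLinearMap
  have hwb : ∀ x : B, wb (Ideal.Quotient.mk I x) = w x := fun x => rfl
  have hwu : ∀ x, Ideal.Quotient.mk J (wb x) = ū x := fun x => by
    obtain ⟨b, rfl⟩ := Ideal.Quotient.mk_surjective x
    rw [hwb]
    exact LinearMap.congr_fun hw b
  -- the fibre product
  let F : Subalgebra A ((B ⧸ I) × C) :=
    AlgHom.equalizer (ū.comp (AlgHom.fst A (B ⧸ I) C)) ((Ideal.Quotient.mkₐ A J).comp (AlgHom.snd A (B ⧸ I) C))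
  have hF : ∀ x : (B ⧸ I) × C, x ∈ F ↔ ū x.1 = Ideal.Quotient.mk J x.2 := fun x => Iff.rfl
  let N : Ideal F := 𝔞.map (algebraMap A F)
  have hN : ∀ x : F, x ∈ N → x.1.2 = wb x.1.1 := by
    intro x hx
    have hx' : x ∈ 𝔞 • (⊤ : Submodule A F) := by
      rw [Ideal.smul_top_eq_map]; exact hx
    clear hx
    refine Submodule.smul_induction_on hx' (fun a ha f _ => ?_) (fun f g hf hg => ?_)
    · show a • f.1.2 = wb (a • f.1.1)
      rw [map_smul, ← sub_eq_zero, ← smul_sub]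
      refine hJa a ha _ ?_
      rw [← Ideal.Quotient.eq_zero_iff_mem, map_sub, hwu, (hF f.1).mp f.2, sub_self]
    · show f.1.2 + g.1.2 = wb (f.1.1 + g.1.1)
      rw [map_add, hf, hg]
  let sec : B → F := fun b => ⟨(Ideal.Quotient.mk I b, w b), (hF _).mpr (by
    rw [← hwb, hwu])⟩
  let E := F ⧸ N
  letI : CommRing E := Ideal.Quotient.commRing N
  letI : Algebra (A ⧸ 𝔞) E := (Ideal.Quotient.lift 𝔞 (algebraMap A E) (fun a ha =>
    Ideal.Quotient.eq_zero_iff_mem.mpr (Ideal.mem_map_of_mem (algebraMap A F) ha))).toAlgebra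
  haveI : IsScalarTower A (A ⧸ 𝔞) E := IsScalarTower.of_algebraMap_eq fun _ => rfl
  let Kf : Ideal F := RingHom.ker ((RingHom.fst (B ⧸ I) C).comp F.val.toRingHom)
  have hKf : ∀ x : F, x ∈ Kf ↔ x.1.1 = 0 := fun x => Iff.rfl
  let JE : Ideal E := Kf.map (Ideal.Quotient.mk N)
  have hKJ : ∀ x : F, x ∈ Kf → x.1.2 ∈ J := fun x hx => by
    rw [← Ideal.Quotient.eq_zero_iff_mem, ← (hF x.1).mp x.2, (hKf x).mp hx, map_zero]
  have hJE : IsNilpotent JE := ⟨2, by
    rw [← Ideal.map_pow, Submodule.zero_eq_bot, Ideal.map_eq_bot_iff_le_ker]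
    refine le_trans ?_ bot_le
    rw [pow_two, Ideal.mul_le]
    intro x hx y hy
    rw [Ideal.mem_bot]
    refine Subtype.ext (Prod.ext ?_ ?_)
    · show x.1.1 * y.1.1 = 0
      rw [(hKf x).mp hx, zero_mul]
    · show x.1.2 * y.1.2 = 0
      have : x.1.2 * y.1.2 ∈ J * J := Ideal.mul_mem_mul (hKJ x hx) (hKJ y hy)
      rwa [hJ, Ideal.mem_bot] at this⟩
  have hdiff : ∀ f g : F, f.1.1 = g.1.1 → Ideal.Quotient.mk JE (Ideal.Quotient.mk N f) = Ideal.Quotient.mk JE (Ideal.Quotient.mk N g) :=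
    fun f g h => by
      rw [Ideal.Quotient.eq, ← map_sub]
      refine Ideal.mem_map_of_mem _ ((hKf _).mpr ?_)
      show f.1.1 - g.1.1 = 0
      rw [h, sub_self]
  let s₀ : B →ₐ[A] E ⧸ JE :=
    { toFun := fun b => Ideal.Quotient.mk JE (Ideal.Quotient.mk N (sec b))
      map_one' := by rw [hdiff (sec 1) 1 (map_one _), map_one, map_one]
      map_mul' := fun x y => by rw [hdiff (sec (x * y)) (sec x * sec y) (map_mul _ _ _), map_mul, map_mul]
      map_zero' := by rw [hdiff (sec 0) 0 (map_zero _), map_zero, map_zero]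
      map_add' := fun x y => by rw [hdiff (sec (x + y)) (sec x + sec y) (map_add _ _ _), map_add, map_add]
      commutes' := fun a => by
        rw [hdiff (sec (algebraMap A B a)) (algebraMap A F a) rfl]
        rfl }
  have hs₀kill : ∀ x ∈ 𝔞.map (algebraMap A B), s₀ x = 0 := fun x hx => by
    have : 𝔞.map (algebraMap A B) ≤ RingHom.ker s₀ := by
      rw [Ideal.map_le_iff_le_comap]
      intro a ha
      show s₀ (algebraMap A B a) = 0
      rw [s₀.commutes]
      show Ideal.Quotient.mk JE (Ideal.Quotient.mk N (algebraMap A F a)) = 0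
      rw [show Ideal.Quotient.mk N (algebraMap A F a) = 0 from
        Ideal.Quotient.eq_zero_iff_mem.mpr (Ideal.mem_map_of_mem _ ha), map_zero]
    exact this hx
  have hs : Function.Surjective (algebraMap A (A ⧸ 𝔞)) := Ideal.Quotient.mk_surjective
  obtain ⟨q, hq⟩ := h₀ E JE hJE ⟨1, by simp⟩
    (AlgHom.extendScalarsOfSurjective hs (Ideal.Quotient.liftₐ _ s₀ hs₀kill)) ⟨max m m', fun z hz => by
      rw [← Ideal.map_pow] at hz
      obtain ⟨x, hx, rfl⟩ := (Ideal.mem_map_iff_of_surjective _ Ideal.Quotient.mk_surjective).mp hz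
      show s₀ x = 0
      show Ideal.Quotient.mk JE (Ideal.Quotient.mk N (sec x)) = 0
      rw [hdiff (sec x) 0 (Ideal.Quotient.eq_zero_iff_mem.mpr hx), map_zero, map_zero]⟩
  have hrep : ∀ b : B, ∃ r : F, r.1.1 = Ideal.Quotient.mk I b ∧ Ideal.Quotient.mk N r = q (Ideal.Quotient.mk _ b) := by
    intro b
    obtain ⟨f, hf⟩ := Ideal.Quotient.mk_surjective (q (Ideal.Quotient.mk _ b))
    have h1 : Ideal.Quotient.mk JE (q (Ideal.Quotient.mk _ b)) = Ideal.Quotient.mk JE (Ideal.Quotient.mk N (sec b)) :=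
      AlgHom.congr_fun hq (Ideal.Quotient.mk _ b)
    rw [← hf, Ideal.Quotient.eq, ← map_sub, Ideal.mem_quotient_iff_mem_sup] at h1
    obtain ⟨k, hk, l, hl, hkl⟩ := Submodule.mem_sup.mp h1
    refine ⟨f - l, ?_, ?_⟩
    · show f.1.1 - l.1.1 = Ideal.Quotient.mk I b
      have h2 : k.1.1 + l.1.1 = f.1.1 - Ideal.Quotient.mk I b := congrArg (fun z : F => z.1.1) hkl
      rw [(hKf k).mp hk, zero_add] at h2
      rw [h2, sub_sub_cancel]
    · rw [map_sub, Ideal.Quotient.eq_zero_iff_mem.mpr hl, sub_zero, hf]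
  choose r hr1 hr2 using hrep
  have huniq : ∀ f g : F, f.1.1 = g.1.1 → Ideal.Quotient.mk N f = Ideal.Quotient.mk N g → f.1.2 = g.1.2 :=
    fun f g h1 h2 => by
      have h3 : f.1.2 - g.1.2 = wb (f.1.1 - g.1.1) := hN (f - g) (Ideal.Quotient.eq.mp h2)
      rw [h1, sub_self, map_zero, sub_eq_zero] at h3
      exact h3
  let v : B →ₐ[A] C :=
    { toFun := fun b => (r b).1.2
      map_one' := huniq (r 1) 1 (by rw [hr1, map_one]; rfl) (by rw [hr2, map_one, map_one, map_one])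
      map_mul' := fun x y => huniq (r (x * y)) (r x * r y)
        (by rw [hr1, map_mul]; show _ = (r x).1.1 * (r y).1.1; rw [hr1, hr1])
        (by rw [hr2, map_mul, map_mul, map_mul, hr2, hr2])
      map_zero' := huniq (r 0) 0 (by rw [hr1, map_zero]; rfl) (by rw [hr2, map_zero, map_zero, map_zero])
      map_add' := fun x y => huniq (r (x + y)) (r x + r y)
        (by rw [hr1, map_add]; show _ = (r x).1.1 + (r y).1.1; rw [hr1, hr1])
        (by rw [hr2, map_add, map_add, map_add, hr2, hr2])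
      commutes' := fun a => huniq (r (algebraMap A B a)) (algebraMap A F a) (by rw [hr1]; rfl) (by
        rw [hr2, show Ideal.Quotient.mk (𝔞.map (algebraMap A B)) (algebraMap A B a) =
          algebraMap (A ⧸ 𝔞) (B ⧸ 𝔞.map (algebraMap A B)) (Ideal.Quotient.mk 𝔞 a) from rfl, q.commutes]
        rfl) }
  refine ⟨v, AlgHom.ext fun b => ?_⟩
  show Ideal.Quotient.mk J (r b).1.2 = u b
  rw [← (hF (r b).1).mp (r b).2, hr1]
  rfl

/-- Lifting along nilpotent ideals. -/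
theorem lift_aux (hproj : FProj (B := B) 𝔞 𝔟) (h₀ : SmoothMod (B := B) 𝔞 𝔟) :
    ∀ (t : ℕ) (C : Type u) [CommRing C] [Algebra A C] (J : Ideal C) (n : ℕ),
      (𝔞 ^ n).map (algebraMap A C) = ⊥ → IsNilpotent J → J * (J ⊔ 𝔞.map (algebraMap A C)) ^ t = ⊥ →
      ∀ u : B →ₐ[A] C ⧸ J, (∃ m : ℕ, ∀ x ∈ 𝔟 ^ m, u x = 0) →
        ∃ v : B →ₐ[A] C, (Ideal.Quotient.mkₐ A J).comp v = u := by
  intro t
  induction t with
  | zero =>
    intro C _ _ J n hC _ ht u hu
    rw [pow_zero, mul_one] at ht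
    refine lift_small 𝔞 𝔟 hproj h₀ J ?_ ?_ hC u hu
    · rw [ht, Ideal.bot_mul]
    · intro a _ x hx
      rw [ht, Ideal.mem_bot] at hx
      rw [hx, smul_zero]
  | succ t ih =>
    intro C _ _ J n hC hJ ht u hu
    set c := J ⊔ 𝔞.map (algebraMap A C) with hc
    set K := J * c ^ t with hK
    have hKJ : K ≤ J := Ideal.mul_le_left
    let e := DoubleQuot.quotQuotEquivQuotOfLEₐ A hKJ
    have hJ' : IsNilpotent (J.map (Ideal.Quotient.mkₐ A K)) := by
      obtain ⟨s, hs⟩ := hJ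
      exact ⟨s, by rw [← Ideal.map_pow, hs, Submodule.zero_eq_bot, Ideal.map_bot]; rfl⟩
    obtain ⟨v', hv'⟩ := ih (C ⧸ K) (J.map (Ideal.Quotient.mkₐ A K)) n
      (by rw [IsScalarTower.algebraMap_eq A C (C ⧸ K), ← Ideal.map_map, hC, Ideal.map_bot]) hJ'
      (by
        rw [show 𝔞.map (algebraMap A (C ⧸ K)) = (𝔞.map (algebraMap A C)).map (Ideal.Quotient.mk K) by
            rw [IsScalarTower.algebraMap_eq A C (C ⧸ K), ← Ideal.map_map]; rfl,
          show J.map (Ideal.Quotient.mkₐ A K) = J.map (Ideal.Quotient.mk K) from rfl,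
          ← Ideal.map_sup, ← Ideal.map_pow, ← Ideal.map_mul]
        exact (Ideal.map_eq_bot_iff_le_ker _).mpr (by rw [Ideal.mk_ker]))
      (e.symm.toAlgHom.comp u) (hu.imp fun k hk x hx => by simp [hk x hx])
    have hc' : ∀ b, e (Ideal.Quotient.mk _ (v' b)) = u b := by
      intro b
      have := AlgHom.congr_fun hv' b
      simp only [AlgHom.comp_apply, Ideal.Quotient.mkₐ_eq_mk] at this
      rw [this]
      exact e.apply_symm_apply _
    have hKc : K * c = ⊥ := by rw [hK, mul_assoc, ← pow_succ, ht]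
    obtain ⟨v, hv⟩ := lift_small 𝔞 𝔟 hproj h₀ K
      (le_bot_iff.mp (hKc ▸ Ideal.mul_mono_right (hKJ.trans le_sup_left)))
      (fun a ha x hx => by
        have h1 : x * algebraMap A C a ∈ K * c := Ideal.mul_mem_mul hx (Ideal.mem_sup_right (Ideal.mem_map_of_mem _ ha))
        rw [hKc, Ideal.mem_bot] at h1
        rw [Algebra.smul_def, mul_comm]
        exact h1) hC v'
      (EGA41Lib.kills_power_of_nilpotent v' hJ' (hu.imp fun k hk x hx => by
        apply e.injective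
        rw [map_zero]
        exact (hc' x).trans (hk x hx)))
    refine ⟨v, AlgHom.ext fun b => ?_⟩
    rw [← hc', ← hv]
    rfl

theorem isFormallySmoothAdic_of_fproj (hproj : FProj (B := B) 𝔞 𝔟) (h₀ : SmoothMod (B := B) 𝔞 𝔟) :
    EGA41.IsFormallySmoothAdic A 𝔞 B 𝔟 := by
  intro C _ _ J hJ hA u hu
  obtain ⟨n, hn⟩ := hA
  obtain ⟨s, hs⟩ := hJ
  refine lift_aux 𝔞 𝔟 hproj h₀ (s + n) C J n hn ⟨s, hs⟩ ?_ u hu
  refine le_bot_iff.mp (Ideal.mul_le_right.trans ?_)
  refine Ideal.sup_pow_add_le_pow_sup_pow.trans ?_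
  rw [hs, ← Ideal.map_pow, hn, Submodule.zero_eq_bot, sup_idem]

/-- The converse: reduction modulo the ideal of definition. -/
theorem smoothMod_of_isFormallySmoothAdic (h : EGA41.IsFormallySmoothAdic A 𝔞 B 𝔟) : SmoothMod (B := B) 𝔞 𝔟 := by
  intro E _ _ J hJ _ u hu
  letI : Algebra A E := ((algebraMap (A ⧸ 𝔞) E).comp (algebraMap A (A ⧸ 𝔞))).toAlgebra
  haveI : IsScalarTower A (A ⧸ 𝔞) E := IsScalarTower.of_algebraMap_eq fun _ => rfl
  have hker : ∀ a ∈ 𝔞, algebraMap A E a = 0 := fun a ha => by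
    rw [IsScalarTower.algebraMap_apply A (A ⧸ 𝔞) E, Ideal.Quotient.algebraMap_eq,
      Ideal.Quotient.eq_zero_iff_mem.mpr ha, map_zero]
  obtain ⟨m, hm⟩ := hu
  obtain ⟨v, hv⟩ := h E J hJ ⟨1, (Ideal.map_eq_bot_iff_le_ker _).mpr (by rw [pow_one]; exact hker)⟩
    ((u.restrictScalars A).comp (Ideal.Quotient.mkₐ A _)) ⟨m, fun x hx => hm _ (by
      rw [← Ideal.map_pow]; exact Ideal.mem_map_of_mem _ hx)⟩
  have hkill : ∀ x ∈ 𝔞.map (algebraMap A B), v x = 0 := by
    intro x hx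
    have : 𝔞.map (algebraMap A B) ≤ RingHom.ker v := by
      rw [Ideal.map_le_iff_le_comap]
      intro a ha
      simpa using hker a ha
    exact this hx
  have hs : Function.Surjective (algebraMap A (A ⧸ 𝔞)) := Ideal.Quotient.mk_surjective
  refine ⟨AlgHom.extendScalarsOfSurjective hs (Ideal.Quotient.liftₐ _ v hkill), AlgHom.ext fun z => ?_⟩
  obtain ⟨b, rfl⟩ := Ideal.Quotient.mk_surjective z
  exact AlgHom.congr_fun hv b

end Groth.Agent.FSProjLib
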